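import Cfsg.Agent.X9.Ch
import Cfsg.Agent.X9M.A

/-! # The systems with 27 and 15 points -/

set_option autoImplicit false
set_option synthInstance.maxSize 4000

universe u

namespace Cfsg.Lib.X9

open Subgroup Cfsg.Lib.Local Cfsg.Lib.Solv Module Cfsg.Lib.Spor Cfsg.Lib.LX V8
open Cfsg.Lib.X9M (PM)

variable {G : Type u} [Group G] [Finite G] {z s : G} {S : Sh (qOf z) z V8}

/-- Entries of a table. -/
def tb (T b y : ℕ) : ℕ := Nat.land (Nat.shiftRight T (Nat.mul b y)) (Nat.pred (Nat.pow 2 b))

theorem tb_eq_1' : type_of% @tb.eq_1 := @tb.eq_1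

theorem Sys.pm {qt γ pts : ℕ} (h : Sys qt γ pts S s) {ι : Type} {p : ι → V8} {β : ι → ι → ZMod 2}
    {gens : List (ι → ι)} {Γ : (ι → ι) → Prop} (h1 : Γ id) (hm : ∀ a b, Γ a → Γ b → Γ (a ∘ b))
    (W : ℕ → ℕ)
    (hW : allN 256 (fun y => !bt pts y || Nat.beq (ap (ev (γ :: BL) (W y)) 255) y) = true)
    (nd : ∀ v : V8, (∀ i, bq qt (p i).1 v.1 = false) → v = 0) (q0 : ∀ i, bt qt (p i).1 = false)
    (b : ∀ i j, cond (bq qt (p i).1 (p j).1) 1 0 = β i j)
    (lift : ∀ δ ∈ gens, ∃ w, ∀ i, lin (ev (γ :: BL) w) (p i) = p (δ i))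
    (sub : ∀ M ∈ γ :: BL, ∃ η, Γ η ∧ ∀ i, lin M (p i) = p (η i)) : PM S p β gens Γ := by
  have k : ∀ {g M}, M ∈ γ :: BL → Act S g M → g ∈ X9M.sbg S p Γ h1 hm := fun m a => by
    obtain ⟨η, c, e⟩ := sub _ m
    exact ⟨η, ⟨a.1, fun i => (a.2 _).trans (e i)⟩, c⟩
  have Q : qOf z ≤ X9M.sbg S p Γ h1 hm := fun _ a => ⟨id, .of_mem a, h1⟩
  have L := (h.LL_le W hW Q (fun a ha => by
    obtain ⟨u, hu, e⟩ := h.B' a ha
    rcases (by decide +kernel : ∀ u < 8, bm u = idM ∨ bm u ∈ BL) u hu with f | f
    · exact Q (by have := Act.one.mem_Q (f ▸ e); rwa [inv_one, _root_.one_mul] at this)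
    · exact k (List.mem_cons_of_mem _ f) e) (h.gen.imp fun _ a => ⟨k List.mem_cons_self a, a⟩)).2
  refine ⟨finrank_eq, fun v e => nd v fun i => h.toCh.b0.1 (e i), fun i => h.toCh.q0.2 (q0 i),
    fun i j => (h.toCh.b _ _).trans (b i j), fun δ m => ?_,
    fun w n a ha => (L (X9P.BB_le_LL n ha)).imp fun _ => And.symm, ⟨s, h.nw⟩,
    fun w n => h.hy.t1 finrank_eq n⟩
  obtain ⟨w, e⟩ := lift δ m
  obtain ⟨g, a⟩ := In.ev (S := S) (l := γ :: BL) (fun M m => by
    rcases List.mem_cons.1 m with rfl | m
    exacts [h.gen, (h.inBL M m).imp fun _ => And.right]) w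
  exact ⟨g, a.1, fun i => (a.2 _).trans (e i)⟩

theorem Sys.endA [IsSimpleGroup G] (h : Sys q1 g27 p27 S s) : X9O.IsO8 G := by
  refine (h.pm (p := fun x : X9M.IA => V8.mk
    (tb 0x8020a002080a8228aa0401051040501441558421a512485a9669ff 8 (9 * x.1 + 3 * x.2.1 + x.2.2)))
    X9M.ΓA.id (fun _ _ => X9M.ΓA.comp) (tb 0x161200000000000000000171000000000000000014160000000000000000000000000000000000001312000000000000000000000000000000000000000000000000000000000000000000001513000018120000001700000000000000000000000000000000000000000000000000000000000000000000000000000000000000000131000000000000000000000000000000000000000000000000000000001712000000000000000001610000000000000000141500000000000000000000000000001514000000000000000000000000018100180000000000000000000000000000000000000000000000000000000000000000000000000000000000000000000018140000000000000000000000000151001500000000000000000000000000000000000000000000181300001512000000160000000000000000000014120000001300000000014100140000000100120000 16)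
    (by decide +kernel) (by decide +kernel) (by decide +kernel) (by decide +kernel) ?_
    fun M m => ?_).isA
  · simp only [X9M.gA, List.forall_mem_cons]
    exact ⟨⟨0x6161, by decide +kernel⟩, ⟨0x1717, by decide +kernel⟩, ⟨0x3131, by decide +kernel⟩,
      nofun⟩
  · refine (fun ⟨a, b, c, e⟩ => ⟨fun x => (a x.1, b x.2.1, c x.2.2), ⟨a, b, c, fun _ => rfl⟩, e⟩ :
      (∃ a b c : Equiv.Perm (Fin 3), _) → _) ?_
    revert M
    decide +kernel

theorem Sys.endB [IsSimpleGroup G] (h : Sys q3 g15 p15 S s) : X9O.IsO8 G := by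
  refine (h.pm (p := fun x : X9M.IB => V8.mk (tb 0x8002041096014020086981422418ff 8 (5 * x.1 + x.2)))
    X9M.ΓB.id (fun _ _ => X9M.ΓB.comp) (tb 0x1812000000000000000000000000000000000000000000000000000000000000000000000000000000000161001600000000000000000000000000000000000000000000000000000000000000000000000000000000000000000181000000000000000000000000000000000000000000000000000000000000000000000000000000000000000000000000000000000000000000000000000000000000000000000000000000000171000000150000000000000000000000000000000000000000000000000000000000000000000000000000000000000000000000000000000000001412000000000000001800000000000000000000000000000141000000000000000000000000000000170000000000000000000000000000001200000000000000010000001400130000 16)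
    (by decide +kernel) (by decide +kernel) (by decide +kernel) (by decide +kernel) ?_
    fun M m => ?_).isB
  · simp only [X9M.gB, List.forall_mem_cons]
    exact ⟨⟨0x8181, by decide +kernel⟩, ⟨0x1614, by decide +kernel⟩, nofun⟩
  · refine (fun ⟨a, b, e, c⟩ => ⟨fun x => (a x.1, b x.2), ⟨a, b, c, fun _ => rfl⟩, e⟩ :
      (∃ (a : Equiv.Perm (Fin 3)) (b : Equiv.Perm (Fin 5)), _ ∧ Equiv.Perm.sign b = 1) → _) ?_
    revert M
    decide +kernel

end Cfsg.Lib.X9
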