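import Cfsg.Agent.X9.EA
import Cfsg.Agent.S3227
import Cfsg.Agent.Bender.TwoRank
import Mathlib.GroupTheory.SpecificGroups.Alternating.Simple

/-! # The system with 135 points -/

set_option autoImplicit false
set_option synthInstance.maxSize 4000

universe u

namespace Cfsg.Lib.X9

open Subgroup Cfsg.Lib.Local Cfsg.Lib.Solv Module Cfsg.Lib.Spor Cfsg.Lib.LX V8 Equiv

variable {G : Type u} [Group G] [Finite G] {z s w c : G} {S : Sh (qOf z) z V8}

noncomputable section

/-- The member of the spread containing a singular vector. -/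
def sp9 (v : V8) : ℕ := tb 0x999999899969750999492729384635999939643951187499860117925290999999594119876242997358039110969999282560930793999476959994999999899979568923211399611450970894999945720296409899938593999799999969340736958490999262989995999999711897999699999950999999499939219 4 v.1
/-- Representatives. -/
def rp9 (i : Fin 9) : V8 := V8.mk (tb 0x1d1b1710080402010f 8 i)
/-- Words for the points. -/
def wd9 : ℕ → ℕ := tb 0x12161500000000000000000000001216160000000012161701216181216181000000000000000000000013131500000000141215001314100014130000000012141500121210001212001413100013140000001000000000000000000000000000000161410000000001817101214160000121000000001314120141216000141401413120000012000131300000000000000001313101313120016131014131700018180001614000000001413180001613000181700000001314121000000000000000000000000000000000000000000014131300000000017131012141700013120000000001616101212130000013013131700001410001214000000000000000014121012121600018140141213001712100017180000000012121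800017161212141000000000018120000000000000000000000000000013141500171710001618012141300017140014181000000000181311412121000017100000000001615000000000000000000000001216100014170001215000000000013160000000000000000000000000018000000000000000000000000000000000000000000012181600000000000000000000000171810000000012121401314140000014000000000181210141218000013101313180001213000141200000000000000001214101314160001617013141700017121413131000000001214140018141000171300000000001616000000000000000000000000000001212150141212000181300171411214131000171500000000016181000171700131610000000000018100000000000000000000000141710001216000141800000000000017000000000000000000000000131500000000000000000000000000000000000000000001218150000000014131500161211313141001816100018160000161000000001313140001612000181500000000012171000000000000000000000001318100013180000016000000000014150000000000000000000000001217000000000000000000000000000000000000000000012181801216140000015000131700000000001218000000000000000000000000141600000000000000000000000000000000000000000001218171218171000000000000000000000000000000000000000000001317100000000000000000000000121810000000001416101218130000000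 28
/-- Projections. -/
def pl9 : List ℕ := [0x5a00c36966f055cc, 0x56ecd100088f356b, 0x2d9cb35bea000274, 0x1e6dcad5b9720001]

theorem sp9_eq_1' : type_of% @sp9.eq_1 := @sp9.eq_1
theorem rp9_eq_1' : type_of% @rp9.eq_1 := @rp9.eq_1
theorem wd9_eq_1' : type_of% @wd9.eq_1 := @wd9.eq_1
theorem pl9_eq_1' : type_of% @pl9.eq_1 := @pl9.eq_1

theorem f9a : allN 256 (fun y => Nat.beq (sp9 (V8.mk y)) 9 || frc (ev (g135 :: BL) (wd9 y)) fun M =>
    Nat.beq (ap M 255) y && allN 256 fun v => bt Em v ==
      (Nat.beq v 0 || Nat.beq (sp9 (V8.mk (ap M v))) (sp9 (V8.mk y)))) = true := by decide +kernel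

theorem f9b : (∀ v, sp9 v ≤ 9) ∧ (∀ i, sp9 (rp9 i) = i) ∧
    (∀ v : V8, bt p135 v.1 = true ↔ sp9 v ≠ 9) ∧ ∀ v : V8, v ≠ 0 → bt q5 v.1 = false → sp9 v ≠ 9 := by
  decide +kernel

theorem f9c : ∀ P ∈ pl9, ∃ i j : Fin 7, ∀ v, (lin P v = 0 ∨ sp9 (lin P v) = i) ∧
    (v + lin P v = 0 ∨ sp9 (v + lin P v) = j) ∧ (v = 0 ∨ sp9 v = i → lin P v = v) ∧
    (v = 0 ∨ sp9 v = j → lin P v = 0) := by decide +kernel

theorem rigid9 {φ : V8 → V8} (ha : ∀ u v, φ (u + v) = φ u + φ v) (h0 : φ (V8.mk 255) ≠ 0)
    (h : ∀ v, sp9 v < 7 → sp9 (φ v) = sp9 v) (v : V8) : φ v = v := by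
  have z0 : φ 0 = 0 := by simpa using ha 0 0
  have m : ∀ {v} {i : Fin 7}, v = 0 ∨ sp9 v = i → φ v = 0 ∨ sp9 (φ v) = i := fun {v i} k =>
    k.imp (fun e => by rw [e, z0]) fun e => by rw [h v (e ▸ i.2), e]
  have c := ev_ind (P := fun M => ∀ v, φ (lin M v) = lin M (φ v)) (l := pl9)
    (fun v => by rw [lin_id, lin_id]) (fun M N a b v => by rw [lin_mu, lin_mu, a, b]) fun P hP v => by
      obtain ⟨i, j, k⟩ := f9c P hP
      conv_rhs => rw [← add_add_cancel'' v (lin P v), ha, lin_add, (k _).2.2.2 (m (k v).2.1),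
        (k _).2.2.1 (m (k v).1), zero_add]
  have x : φ (V8.mk 255) = V8.mk 255 :=
    ((by decide +kernel : ∀ v, lin (ev pl9 0x4321) v = v → v = 0 ∨ v = V8.mk 255) _
      ((c _ _).symm.trans (congrArg φ (by decide +kernel)))).resolve_left h0
  rw [← lin_of_mu (M := 0x3366c7a5a6c5b2ff) (N := 0xbef6e27ab970243c) (by decide +kernel) v]
  refine ext8 (f := fun v => φ (lin 0x3366c7a5a6c5b2ff v)) (fun u v => by rw [lin_add, ha])
    (lin_add _) (fun i hi => ?_) _
  rw [(by decide +kernel : ∀ i < 8, lin 0x3366c7a5a6c5b2ff (bs i) =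
    lin (ev pl9 (tb 0x23100000031000000230000002100000004000000030000000200000000 32 i)) (V8.mk 255)) i hi, c, x]

variable (h : Sys q5 g135 p135 S s)
include h

omit [Finite G] in
theorem Sys.word (n : ℕ) : In S (ev (g135 :: BL) n) := In.ev (fun M m => by
  rcases List.mem_cons.1 m with rfl | m
  exacts [h.gen, (h.inBL M m).imp fun _ => And.right]) n

theorem Sys.pt9 {y : V8} (hy : sp9 y ≠ 9) : ∃ w, NW z w ∧ S.π w = y ∧
    ∀ v, v ∈ S.E w ↔ v = 0 ∨ sp9 v = sp9 y := by
  have f := allN_iff.1 f9a _ y.lt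
  simp only [mk_self, frc_eq, Bool.or_eq_true, Nat.beq_eq, hy, false_or, Bool.and_eq_true,
    allN_iff, beq_iff_eq] at f
  obtain ⟨c, e⟩ := h.word (wd9 y.1)
  refine ⟨_, h.nw.conj' e.1, ?_, fun v => ?_⟩
  · rw [← S.ρ_π c e.1 s h.nw.mem, e.2, h.p]
    exact V8.ext f.1
  obtain ⟨v, rfl⟩ : ∃ u, S.ρ c u = v := ⟨_, S.ρ_ρ_inv e.1 v⟩
  have a : S.ρ c v ∈ S.E (c * s * c⁻¹) ↔ v ∈ S.E s := ⟨fun k => by
    simpa [S.ρ_inv_ρ e.1, mul_assoc] using NW.ρ_E S (inv_mem e.1) k, NW.ρ_E S e.1⟩
  rw [a, h.toCh.mem_E okE_all.2.2.2.2, f.2 _ v.lt, S.ρ_eq_zero e.1, e.2, ← lin_val, mk_self,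
    Bool.or_eq_true, Nat.beq_eq, Nat.beq_eq]
  exact or_congr_left ⟨fun k => V8.ext k, fun k => k ▸ rfl⟩

theorem Sys.E9 (n : NW z w) (v : V8) : v ∈ S.E w ↔ v = 0 ∨ sp9 v = sp9 (S.π w) := by
  obtain ⟨x, m, e, k⟩ := h.pt9 (f9b.2.2.1 _ |>.1 (h.pt w n))
  rcases (S.π_eq_iff m.mem n.mem).1 e with r | r
  · rw [← k, r]
  · rw [← k, r, m.comm, m.E_mul]

theorem Sys.ne9 (hc : c ∈ centralizer ({z} : Set G)) {v : V8} (hv : sp9 v ≠ 9) :
    sp9 (S.ρ c v) ≠ 9 := by
  obtain ⟨x, m, rfl, -⟩ := h.pt9 hv
  rw [S.ρ_π _ hc _ m.mem]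
  exact (f9b.2.2.1 _).1 (h.pt _ (m.conj' hc))

theorem Sys.eq9 (hc : c ∈ centralizer ({z} : Set G)) {u v : V8} (hu : sp9 u ≠ 9)
    (e : sp9 v = sp9 u) : sp9 (S.ρ c v) = sp9 (S.ρ c u) := by
  obtain ⟨x, m, rfl, k⟩ := h.pt9 hu
  have := (h.E9 (m.conj' hc) _).1 (NW.ρ_E S hc ((k v).2 (.inr e)))
  rw [S.ρ_eq_zero hc, ← S.ρ_π _ hc _ m.mem] at this
  exact this.resolve_left fun f => hu (by rw [← e, f]; decide +kernel)

theorem Sys.hom9 : ∃ φ : centralizer ({z} : Set G) →* Perm (Fin 9),
    ∀ c i v, sp9 v = i.1 → sp9 (S.ρ c.1 v) = (φ c i).1 := by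
  have r : ∀ i, sp9 (rp9 i) ≠ 9 := fun i => by rw [f9b.2.1]; exact i.2.ne
  let f : centralizer ({z} : Set G) → Fin 9 → Fin 9 := fun c i =>
    ⟨sp9 (S.ρ c.1 (rp9 i)), (f9b.1 _).lt_of_ne (h.ne9 c.2 (r i))⟩
  have k : ∀ c i v, sp9 v = i.1 → sp9 (S.ρ c.1 v) = (f c i).1 := fun c i v e =>
    h.eq9 c.2 (r i) (e.trans (f9b.2.1 i).symm)
  let _ : MulAction (centralizer ({z} : Set G)) (Fin 9) :=
    { smul := f
      one_smul := fun i => Fin.ext ((congrArg sp9 (S.ρ_one _)).trans (f9b.2.1 i))
      mul_smul := fun a b i => Fin.ext ((congrArg sp9 (S.ρ_mul a.2 b.2 _)).trans (k a _ _ rfl)) }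
  exact ⟨MulAction.toPermHom _ _, k⟩

theorem Sys.endT [IsSimpleGroup G] : Cfsg.Spor.IsoTh G := by
  obtain ⟨φ, k⟩ := h.hom9
  have rig : ∀ c, (∀ i : Fin 9, i.1 < 7 → φ c i = i) → c.1 ∈ qOf z := fun c e =>
    S.mem_of_ρ c.2 (rigid9 (map_add _) (mt (S.ρ_eq_zero c.2).1 (by decide +kernel)) fun v hv => by
      rw [k c ⟨sp9 v, hv.trans (by decide)⟩ v rfl, e _ hv])
  have one : ∀ c, c.1 ∈ qOf z → φ c = 1 := fun c e => Equiv.ext fun i => Fin.ext (by
    rw [← k c i _ (f9b.2.1 i), S.ρ_of_mem e, f9b.2.1]; rfl)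
  have wd : ∀ n (σ : Perm (Fin 9)), (∀ i, sp9 (lin (ev (g135 :: BL) n) (rp9 i)) = (σ i).1) →
      σ ∈ φ.range := fun n σ e => by
    obtain ⟨c, a⟩ := h.word n
    exact ⟨⟨c, a.1⟩, Equiv.ext fun i => Fin.ext (by rw [← k _ i _ (f9b.2.1 i), a.2, e])⟩
  have le : alternatingGroup (Fin 9) ≤ φ.range := by
    let N := closure {finRotate 9, swap 7 8 * finRotate 9 * (swap 7 8)⁻¹}
    have : N.Normal := by
      rw [← normalizer_eq_top_iff, eq_top_iff, ← Perm.closure_cycle_adjacent_swap
        (isCycle_finRotate (n := 7)) support_finRotate 7, closure_le]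
      rintro _ (rfl | rfl)
      · exact le_normalizer (subset_closure (.inl rfl))
      · refine mem_normalizer_fintype fun x hx => ?_
        refine (closure_le (N.comap (MulAut.conj (swap (7 : Fin 9) 8)).toMonoidHom)).2 ?_ hx
        rintro _ (rfl | rfl)
        · exact subset_closure (.inr rfl)
        · exact subset_closure (.inl (by decide +kernel))
    refine (Perm.alternatingGroup_le_of_normal (N := N) (by simp) ((nontrivial_iff_exists_ne_one _).2
      ⟨_, subset_closure (.inl rfl), by decide +kernel⟩)).trans ((closure_le _).2 ?_)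
    rintro _ (rfl | rfl)
    exacts [wd 0x2181714131217 _ (by decide +kernel), wd 0x18141713121 _ (by decide +kernel)]
  have ge : φ.range ≤ alternatingGroup (Fin 9) := by
    rintro _ ⟨c, rfl⟩
    by_contra n
    obtain ⟨d, e⟩ := le (show swap 7 8 * (φ c)⁻¹ ∈ alternatingGroup (Fin 9) by
      rw [Perm.mem_alternatingGroup] at n ⊢
      rw [map_mul, Perm.sign_inv, Int.units_ne_iff_eq_neg.1 n]; decide)
    have f : φ (d * c) = swap 7 8 := by rw [map_mul, e, inv_mul_cancel_right]
    exact absurd (f.symm.trans (one _ (rig _ (by rw [f]; decide)))) (by decide)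
  have ker : pCore 2 (centralizer ({z} : Set G)) = φ.ker := Subgroup.ext fun c =>
    (mem_qOf_coe c).symm.trans ⟨one c, fun e => rig c fun i _ => by rw [MonoidHom.mem_ker.1 e]; rfl⟩
  have : (pCore 2 (centralizer ({z} : Set G))).Normal := ker ▸ inferInstance
  refine (Agent.S3227.result z S.pre.ord (fun e => ?_) (PG.isExtraspecial_of_mulEquiv
    (equivMapOfInjective _ _ (subtype_injective _)).symm S.pre.isExtraspecial)
    (by rw [← card_qOf, X9O.card_Q S finrank_eq]) (fun c hc => (mem_qOf_coe c).1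
      (zpowers_le.2 S.pre.mem (S.pre.cent ?_)))
    ((QuotientGroup.quotientMulEquivOfEq ker).trans ((QuotientGroup.quotientKerEquivRange φ).trans
      (MulEquiv.subgroupCongr (ge.antisymm le))))).2.2.2
  · rw [Bender.oddCore_eq_bot_of_simple (even_iff_two_dvd.2 (S.pre.ord ▸ orderOf_dvd_natCard z)),
      sup_bot_eq] at e
    obtain ⟨g, hg⟩ := isConj_iff.1 h.nw.cj
    exact h.nw.ne (by rw [← hg, mem_C.1 (e.ge (mem_top g)), mul_inv_cancel_right])
  · rintro _ ⟨x, hx, rfl⟩
    exact congrArg Subtype.val (hc x hx)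

end

end Cfsg.Lib.X9
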