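import Cfsg.Agent.HN3.HSX

/-!
A recognition of the automorphism group of the Higman–Sims group, from the side of a 2-central
involution.
-/

set_option autoImplicit false
set_option linter.unusedSectionVars false

namespace Cfsg.Lib.X9

open Subgroup Cfsg.Lib.Trans Cfsg.Lib.Gold Cfsg.Lib.Known Cfsg.Lib.HN3
open scoped commutatorElement

/-- The data in the quotient of the centraliser of a non-central involution. -/
structure XE (X : Type*) [Group X] where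
  τ : X
  η : X
  ν : X
  Q : Subgroup X
  E : Subgroup X
  U : Subgroup X
  Y0 : Subgroup X
  ττ : τ * τ = 1
  τ1 : τ ≠ 1
  ηη : η * η = τ
  νν : ν * ν = 1
  ηQ : η ∈ Q
  νQ : ν ∈ Q
  ην : η * ν ≠ ν * η
  two : IsPGroup 2 Q
  le : Q ≤ C1 τ
  norm : C1 τ ≤ Ns Q
  EQ : E ≤ Q
  UE : U ≤ E
  EN : ∀ N : Subgroup X, N.Normal → τ ∈ N → E ≤ N
  nab : ¬ E ≤ Cs E
  cen : ∀ A ≤ C1 τ, C1 τ ≤ Ns A → A ≤ Cs E → A ≤ Q
  ptwo : ∀ A ≤ C1 τ, C1 τ ≤ Ns A → IsPGroup 2 A → A ≤ Q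
  ab : ∀ A ≤ Q, C1 τ ≤ Ns A → A ≤ Cs A → A ≤ zpowers η
  sub : ∀ A, E ≤ A → A ≤ Q → C1 τ ≤ Ns A → A = Q ∨ A = Q ⊓ C1 η
  idx : ∀ g ∈ C1 τ, ∀ g' ∈ C1 τ, g ∉ Y0 → g' ∉ Y0 → g * g' ∈ Y0
  lam : ∀ g, g * ν * g⁻¹ ∈ C1 τ → g * ν * g⁻¹ ∉ Y0
  cardU : 8 ≤ Nat.card U
  sqU : ∀ x ∈ U, x * x = 1
  conjU : ∀ x ∈ U, x ≠ 1 → ∃ g, g * τ * g⁻¹ = x

namespace XE

universe u

variable {X : Type u} [Group X] [Finite X] (D : XE X) {N M : Subgroup X}

theorem mem_η {z : X} (hz : z ∈ zpowers D.η) (h1 : z ≠ 1) : z = D.τ ∨ z * z = D.τ := by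
  obtain ⟨k, rfl⟩ := mem_zpowers_iff.1 hz
  rcases Int.even_or_odd' k with ⟨j, rfl | rfl⟩
  · rw [zpow_mul, zpow_two, D.ηη] at h1 ⊢
    exact .inl ((F3.mem_zpowers_two D.ττ (zpow_mem_zpowers _ j)).resolve_left h1)
  · right
    rw [← (Commute.refl D.η).mul_zpow, D.ηη, zpow_add, zpow_mul, zpow_two, D.ττ, one_zpow, one_mul,
      zpow_one]

theorem zcen [N.Normal] (h : D.E ≤ N) : C1 D.τ ⊓ N ⊓ Cs (D.Q ⊓ N) ≤ zpowers D.η := by
  have n : C1 D.τ ≤ Ns (C1 D.τ ⊓ N ⊓ Cs (D.Q ⊓ N)) :=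
    le_Ns_inf (le_Ns_inf le_normalizer le_normalizer_of_normal)
      (le_Ns_Cs (le_Ns_inf D.norm le_normalizer_of_normal))
  have l := D.cen _ (inf_le_left.trans inf_le_left) n
    (inf_le_right.trans (Cs_anti (le_inf D.EQ h)))
  exact D.ab _ l n (inf_le_right.trans (Cs_anti (le_inf l (inf_le_left.trans inf_le_right))))

theorem exists_syl : ∃ T, IsSylowIn 2 T ⊤ ∧ D.Q ≤ T ∧ T ≤ C1 D.τ := by
  have := Fact.mk Nat.prime_two
  obtain ⟨T, hT, h⟩ := exists_isSylowIn_ge D.two D.le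
  refine ⟨T, isSylowIn_of_maximal le_top hT.isPGroup fun R hR h1 _ => ?_, h, hT.le⟩
  by_contra h2
  obtain ⟨g, hg, h3⟩ := SetLike.exists_of_lt (lt_inf_normalizer hR (lt_of_le_not_ge h1 h2))
  have m : g * D.τ * g⁻¹ ∈ zpowers D.η := D.zcen (N := ⊤) le_top
    ⟨⟨hT.le (mem_normalizer_conj hg.2 (h (D.ηη ▸ mul_mem D.ηQ D.ηQ))), trivial⟩,
      Cs_anti (inf_le_left.trans h) (mem_normalizer_conj (mem_Ns_Cs hg.2)
        (mem_Cs.2 fun u hu => mem_C1.1 (hT.le hu)))⟩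
  rcases D.mem_η m (fun e => D.τ1 (by simpa using e)) with e | e
  · exact h3 ((hT.eq_inf hR h1).le ⟨hg.1, mem_C1.2 (mul_inv_eq_iff_eq_mul.1 e)⟩)
  · exact D.τ1 (by rw [← e, conj_mul', D.ττ, mul_one, mul_inv_cancel])

theorem τ_mem [N.Normal] (h : D.E ≤ N) (h1 : M ≤ N) (h2 : N ≤ Ns M) (h3 : ¬ Odd (Nat.card M)) :
    D.τ ∈ M := by
  have := Fact.mk Nat.prime_two
  obtain ⟨T, hT, hQ, hC⟩ := D.exists_syl
  have s := (hT.inf_normal_of_le (N := N) le_normalizer_of_normal le_top).inf_normal_of_le h2 h1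
  obtain ⟨z, hz, z1, z2⟩ := TIM.exists_fix (P := T ⊓ N) (hT.isPGroup.to_le inf_le_left) s.isPGroup
    (le_Ns_inf le_normalizer (inf_le_right.trans h2))
    (mt s.eq_bot_iff.1 (not_not.2 (Nat.not_odd_iff_even.1 h3).two_dvd))
  rcases D.mem_η (D.zcen h ⟨⟨hC hz.1.1, hz.1.2⟩,
    mem_Cs.2 fun u hu => (z2 u ⟨hQ hu.1, hu.2⟩).symm⟩) z1 with e | e <;> rw [← e]
  exacts [hz.2, mul_mem hz.2 hz.2]

include D in
theorem eq_bot_of_odd [N.Normal] (h : Odd (Nat.card N)) : N = ⊥ := by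
  have := isMulCommutative_of_sq D.sqU
  have key : N ⊓ C1 D.τ ≤ ⊥ := by
    have o := odd_card_of_le (inf_le_left (b := C1 D.τ)) h
    have n : C1 D.τ ≤ Ns (N ⊓ C1 D.τ) := le_Ns_inf le_normalizer_of_normal le_normalizer
    have d := inf_eq_bot_of_odd D.two o
    exact (le_inf (D.cen _ inf_le_right n ((Solv.le_centralizer_of_disjoint
      (inf_le_right.trans D.norm) (D.le.trans n) ((inf_comm _ _).trans d)).trans (Cs_anti D.EQ)))
      le_rfl).trans d.le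
  refine eq_bot_iff.2 (Solv.Coprime.le_of_forall_centralizer_singleton (A := D.U) (fun hc => ?_)
    le_normalizer_of_normal (coprime_of_odd (isPGroup_of_sq D.sqU) h) fun a ha a1 => ?_)
  · obtain ⟨g, hg⟩ := hc.exists_ofOrder_eq_natCard
    have := Nat.le_of_dvd two_pos (orderOf_dvd_of_pow_eq_one
      (show g ^ 2 = 1 from Subtype.ext ((sq (g : X)).trans (D.sqU g g.2))))
    have := D.cardU
    omega
  · obtain ⟨g, rfl⟩ := D.conjU a ha a1
    change N ⊓ C1 _ ≤ ⊥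
    rw [← cj_C1, ← cj_eq_of_normal g N, ← cj_inf, ← cj_bot g]
    exact cj_mono g key

theorem τ_in [N.Normal] (h : N ≠ ⊥) : D.τ ∈ N :=
  D.τ_mem (N := ⊤) le_top le_top le_normalizer_of_normal (mt D.eq_bot_of_odd h)

theorem E_le [N.Normal] (h : N ≠ ⊥) : D.E ≤ N := D.EN N inferInstance (D.τ_in h)

include D in
theorem Cs_eq_bot [N.Normal] (h : N ≠ ⊥) : Cs N = ⊥ := by_contra fun e =>
  D.nab ((D.E_le e).trans (Cs_anti (D.E_le h)))

include D in
theorem simple [N.Normal] (h : N ≠ ⊥) (hm : ∀ M : Subgroup X, M.Normal → M ≤ N → M = ⊥ ∨ M = N) :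
    IsSimpleGroup N := by
  have := (nontrivial_iff_ne_bot N).2 h
  refine ⟨fun M hM => or_iff_not_imp_left.2 fun h1 => ?_⟩
  have l := map_subtype_le M
  have n : N ≤ Ns (M.map N.subtype) := fun g hg => mem_normalizer_fintype (by
    rintro _ ⟨a, ha, rfl⟩
    exact ⟨_, hM.conj_mem a ha ⟨g, hg⟩, rfl⟩)
  have o : ¬ Odd (Nat.card (M.map N.subtype)) := fun e => by
    have : (Oc N).Normal := normalizer_eq_top_iff.1 (eq_top_iff.2 (le_Ns_Oc le_normalizer_of_normal))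
    exact h1 ((map_eq_bot_iff_of_injective _ N.subtype_injective).1 (eq_bot_iff.2
      ((le_Oc_of_le_Ns l n e).trans (D.eq_bot_of_odd odd_card_Oc).le)))
  have m : D.τ ∈ (M.map N.subtype).normalCore := fun g => mem_cj_inv.1
    (D.τ_mem (D.E_le h) ((cj_mono _ l).trans (cj_eq_of_normal _ N).le)
      ((cj_eq_of_normal g⁻¹ N).ge.trans ((cj_mono _ n).trans (cj_Ns _ _).le)) (by rwa [card_cj]))
  have e := (hm _ inferInstance ((normalCore_le _).trans l)).resolve_left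
    fun e => D.τ1 (mem_bot.1 (e.le m))
  refine eq_top_iff.2 fun x _ => ?_
  obtain ⟨y, hy, e'⟩ := normalCore_le _ (e.ge x.2)
  exact Subtype.ext e' ▸ hy

theorem main : ∃ N : Subgroup X, N.Normal ∧ N.index = 2 ∧ Cs N = ⊥ ∧ D.E ≤ N ∧
    Nonempty (N ≃* Spor.HS) := by
  have := Fact.mk Nat.prime_two
  obtain ⟨N, hN, h0, -, hm⟩ := Solv.exists_minimal_normal_le (⊤ : Subgroup X)
    fun e => D.τ1 (mem_bot.1 (e.le (mem_top _)))
  have := D.simple h0 hm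
  have hE := D.E_le h0
  have hC := D.Cs_eq_bot h0
  have hτ : D.τ ∈ N := D.τ_in h0
  have nab : ¬ N ≤ Cs N := fun e => h0 (eq_bot_iff.2 (hC ▸ e))
  have nQ : C1 D.τ ≤ Ns (D.Q ⊓ N) := le_Ns_inf D.norm le_normalizer_of_normal
  have eQ : D.Q ⊓ N = D.Q ⊓ C1 D.η := (D.sub _ (le_inf D.EQ hE) inf_le_left nQ).resolve_left
    fun e => by
      obtain ⟨T, hT, -, h1⟩ := D.exists_syl
      obtain ⟨k, -, h2, h3⟩ := Comp.thompson_in (C := D.Y0)
        ((hm _ inferInstance (commutator_le_left N N)).resolve_left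
          (mt commutator_eq_bot_iff_le_centralizer.1 nab))
        (hT.inf_normal_of_le le_normalizer_of_normal le_top)
        (fun x hx y hy => D.idx x (h1 hx.1) y (h1 hy.1)) (e.ge D.νQ).2 D.νν
      exact D.lam k (h1 h2.1) h3
  have hν : D.ν ∉ N := fun e => D.ην (mem_C1.1 (eQ.le ⟨D.νQ, e⟩).2).symm
  suffices h : Nonempty (N ≃* Spor.HS) by
    refine ⟨N, hN, ?_, hC, hE, h⟩
    have := Spor.index_dvd_card_out N hC
    rw [Nat.card_congr (QExt.nonempty_out_congr h.some).some.toEquiv, Agent.S2072.result] at this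
    exact ((Nat.dvd_prime Nat.prime_two).1 this).resolve_left
      fun e => hν ((index_eq_one.1 e).ge (mem_top _))
  have hna : ¬ IsMulCommutative N := fun e => nab fun x hx => mem_Cs.2 fun y hy =>
    congrArg Subtype.val (e.1.1 ⟨y, hy⟩ ⟨x, hx⟩)
  have z1 : (⟨D.τ, hτ⟩ : N) ≠ 1 := fun e => D.τ1 (congrArg Subtype.val e)
  have o : orderOf (⟨D.τ, hτ⟩ : N) = 2 := orderOf_eq_prime (Subtype.ext ((sq _).trans D.ττ)) z1
  have mC : ∀ {x : N}, x ∈ C1 (⟨D.τ, hτ⟩ : N) ↔ (x : X) ∈ C1 D.τ := fun {x} => by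
    rw [mem_C1, mem_C1, Subtype.ext_iff]; rfl
  have eC : C1 (⟨D.τ, hτ⟩ : N) = (C1 D.τ ⊓ N).subgroupOf N := by
    ext x; rw [mC, inf_subgroupOf_right, mem_subgroupOf]
  have cp : Local.CharP 2 (C1 (⟨D.τ, hτ⟩ : N)) := Local.MSS.charP_of_normal (Q := D.Q.subgroupOf N)
    (fun x hx => mC.2 (D.le hx)) (fun x hx => le_normalizer_comap _ (D.norm (mC.1 hx)))
    (isPGroup_subgroupOf D.two N) fun x hx => zpowers_le.2 D.ηQ (D.zcen hE ⟨⟨mC.1 hx.1, x.2⟩,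
      mem_Cs.2 fun u hu => congrArg Subtype.val (mem_Cs.1 hx.2 ⟨u, hu.2⟩ hu.1)⟩)
  let f := N.subtype.comp ((C1 (⟨D.τ, hτ⟩ : N)).subtype.comp (pCore 2 (C1 (⟨D.τ, hτ⟩ : N))).subtype)
  have f1 : Function.Injective f :=
    (subtype_injective _).comp ((subtype_injective _).comp (subtype_injective _))
  have f2 : f.range = D.Q ⊓ N := by
    rw [← MonoidHom.map_range, ← MonoidHom.map_range, range_subtype, ← Local.MSS.pCoreOf_def, eC,
      Local.MSS.map_subtype_pCoreOf_subgroupOf inf_le_right]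
    exact le_antisymm (le_inf (D.ptwo _ ((Local.MSS.pCoreOf_le _).trans inf_le_left)
      (Local.MSS.le_normalizer_pCoreOf (le_Ns_inf le_normalizer le_normalizer_of_normal))
      (Local.MSS.isPGroup_pCoreOf _)) ((Local.MSS.pCoreOf_le _).trans inf_le_right))
      (Local.MSS.le_pCoreOf (inf_le_inf_right _ D.le) (inf_le_left.trans nQ)
        (D.two.to_le inf_le_left))
  have h3 : R3C.H3 N := ⟨D.U.subgroupOf N, fun a ha => Subtype.ext (D.sqU _ ha),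
    D.cardU.trans (Nat.card_congr (subgroupOfEquivOfLe (D.UE.trans hE)).toEquiv).ge⟩
  have e0 := Local.charP_iff_genFitting.1 cp
  rcases Agent.S1758.result hna _ o (by
    rw [e0]
    exact symp_of f f1 (Solv.pCore_isPGroup 2 _) fun A h1 h2 h3 => isCyclic_of_le
      (D.ab A ((f2 ▸ h1).trans inf_le_left) (nQ.trans (f2 ▸ h2)) h3)) with
    k | k | ⟨F, _, _, k, ⟨e⟩⟩ | k | ⟨F, _, _, k, ⟨e⟩⟩ | ⟨F, _, _, k, ⟨e⟩⟩ | k
  · rw [e0] at k
    obtain ⟨p, hp⟩ : D.η ∈ f.range := (f2.trans eQ).ge ⟨D.ηQ, mem_C1.2 rfl⟩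
    have c : p ∈ center _ := mem_center_iff.2 fun g => f1 (by
      rw [map_mul, map_mul, hp]
      exact mem_C1.1 ((f2.trans eQ).le ⟨g, rfl⟩).2)
    have := congrArg (fun x : center _ => f x) (pow_card_eq_one' (x := (⟨p, c⟩ : center _)))
    simp only [k.2, SubgroupClass.coe_pow, map_pow, hp, OneMemClass.coe_one, map_one] at this
    exact (D.τ1 (by rw [← D.ηη, ← sq, this])).elim
  · refine (D.τ1 (mem_bot.1 (hC.le (mem_Cs.2 fun g hg => ?_)))).elim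
    have := mem_center_iff.1 k (QuotientGroup.mk' _ ⟨g, hg⟩)
    rw [← map_mul, ← map_mul, QuotientGroup.mk'_eq_mk'] at this
    obtain ⟨w, hw, e⟩ := this
    rw [mem_bot.1 ((Bender.oddCore_eq_bot_of_simple (even_iff_two_dvd.2
      (o ▸ orderOf_dvd_natCard _))).le hw), mul_one] at e
    exact congrArg Subtype.val e
  · exact (R3C.not_h3_psl_two k e h3).elim
  · exact (R3C.not_h3_M11 k h3).elim
  · exact (R3C.not_h3_psl_three k e h3).elim
  · exact (R3C.not_h3_psu_three k e h3).elim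
  · exact k

end XE

end Cfsg.Lib.X9
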